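import Mathlib
import Cfsg.Agent.Lib.Comput.Check3
import Cfsg.Agent.Lib.LieModel.U33.P.Data

/-! generated by tools/cgt -/

set_option autoImplicit false
set_option maxRecDepth 100000
set_option Elab.async false

namespace CfsgLib.LieModel.U33.P

open CfsgLib.Comput

def R3_0 : RepC := ⟨11, 1, [],
  []⟩
def R3_1 : RepC := ⟨12, 1, [],
  []⟩
def R3_2 : RepC := ⟨0xc0c, 1, [],
  []⟩
def S3_0 : GenC := ⟨12, [],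
  [(0, 0, 0, 2, 0), (0, 1, 0, 0, 0), (0, 2, 0, 3, 0), (0, 3, 0, 1, 0)], 0⟩
def L3 : Level := ⟨0x0, 0xc00, [], 1, 4, 0, 4, [R3_0, R3_1, R3_2], [S3_0]⟩
def X3 : Ext := [(10, 12, 0)]

def R2_0 : RepC := ⟨10, 1, [(11, 11)],
  [(5, 3, [1])]⟩
def S2_0 : GenC := ⟨10, [(11, 11)],
  [(0, 0, 0, 1, 0), (0, 1, 0, 0, 12)], 0⟩
def L2 : Level := ⟨0xc00, 0xf00, [12], 4, 2, 0, 2, [R2_0], [S2_0]⟩
def X2 : Ext := [(8, 10, 0)]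

def R1_0 : RepC := ⟨0x70b06, 2, [(11, 11)],
  [(4, 3, [1])]⟩
def R1_1 : RepC := ⟨5, 8, [],
  []⟩
def R1_2 : RepC := ⟨7, 8, [],
  []⟩
def R1_3 : RepC := ⟨8, 8, [],
  []⟩
def S1_0 : GenC := ⟨6, [],
  [(0, 0, 0x90b, 2, 0xa0c0c), (0, 2, 0, 0, 0), (0x90b, 2, 10, 4, 0xa0c), (0, 3, 0, 2, 10), (0, 4, 0, 4, 10), (9, 3, 0xc0c, 2, 0xc0c), (0xc0c, 2, 10, 2, 0xc0c), (10, 4, 11, 4, 0xc0c), (10, 3, 9, 4, 10), (0x90b, 4, 0, 1, 10), (0xc0c, 3, 0, 3, 0xa0c0c), (11, 3, 0xa0c, 3, 0xc0c), (9, 4, 11, 2, 0xc0c), (0, 1, 9, 3, 10), (9, 2, 0xc0c, 3, 0xc0c), (10, 2, 0xc0c, 4, 0xc0c), (0xa0c, 4, 0x90b, 4, 0xa0b), (11, 4, 9, 2, 12), (12, 3, 10, 1, 0xa0c), (11, 2, 12, 3, 0xa0c0c), (0xa0c, 3, 10, 3, 0xa0c), (0x90b, 3, 0xa0c, 2, 0xa0c), (12, 4, 11, 3, 0xa0b), (0xa0c, 2, 0x90b, 3, 0xa0b), (0xc0c, 4, 12, 2, 0xa0c0c), (12,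 2, 0xa0c, 4, 11), (10, 1, 12, 4, 0xa0c0c)], 0⟩
def L1 : Level := ⟨0xf00, 0xff0, [10, 12], 8, 1, 0, 27, [R1_0, R1_1, R1_2, R1_3], [S1_0]⟩
def X1 : Ext := [(4, 6, 0), (6, 0, 0x5050a), (7, 7, 0)]

def R0_0 : RepC := ⟨0x302, 27, [(10, 0x70b)],
  [(5, 7, [1])]⟩
def S0_0 : GenC := ⟨2, [(0x70c0c, 0x6060a0c0c)],
  [(0, 0, 0x706, 1, 0x60a), (5, 1, 0, 0, 0x7050a0c0c), (8, 1, 0x80906, 1, 0x809060a0c), (0xa06, 1, 0xb06, 1, 0x90806), (0, 1, 0x60c07, 1, 0xa050a0c0c), (0x806, 1, 0x90806, 1, 0xc070a)], 7⟩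
def L0 : Level := ⟨0xff0, 0xfff, [6, 10, 12], 216, 0, 0, 28, [R0_0], [S0_0]⟩
def X0 : Ext := [(0, 2, 0), (2, 0, 0xb01070c0c), (3, 3, 0)]

def top : List ℕ := [1, 3]
def gs : List ℕ := [2, 6, 10, 12]
def XD : Ext := [(1, 1, 0), (3, 3, 0), (4, 0, 0x104040402030302), (5, 5, 0), (6, 0, 0x104010101010404), (7, 7, 0), (8, 0, 0x80505), (9, 9, 0), (10, 0, 0x909), (11, 11, 0)]
def MX : Level.MaxC := [[(0x706, [0x60a])]]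
def NC : NclD := ⟨1, 7, [(0, [0x805, 0x50c0205070a]), (2, [0, 0x9010809060a0c0c])]⟩

/-- all the equations of the certificate -/
structure Eqs {G : Type*} [Group G] (g : ℕ → G) : Prop where
  l3 : AllHold g L3.eqns
  x3 : AllHold g X3.eqns
  l2 : AllHold g L2.eqns
  x2 : AllHold g X2.eqns
  l1 : AllHold g L1.eqns
  x1 : AllHold g X1.eqns
  l0 : AllHold g L0.eqns
  x0 : AllHold g X0.eqns
  xd : AllHold g XD.eqns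
  mx : AllHold g (L0.maxEqns MX)
  nc : AllHold g NC.eqns

end CfsgLib.LieModel.U33.P
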